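import Groth.Agent.Lib.NumConn10.Rational

/-!
# Twisting by a curve on which a class is negative
-/

set_option autoImplicit false
set_option linter.style.haveILetI false
set_option linter.unusedSectionVars false
set_option maxHeartbeats 1000000
set_option backward.isDefEq.respectTransparency false
set_option backward.isDefEq.respectTransparency.types false

universe u

open CategoryTheory CategoryTheory.Limits AlgebraicGeometry TopologicalSpace Opposite

noncomputable section

namespace Groth.Agent.ExcTwist10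

open Groth.Agent Groth.Agent.NumConn10
open Groth.Agent.NumPoly18 (ptIdeal isIntegral_pt)
open Groth.Agent.SymSq10 (sdot)
open Groth.Agent.SurfRR10 (ncl)
open Groth.Agent.HypSq10 (chi rep rep_inv cls_rep hh)

noncomputable local instance instLawET (Y : Scheme.{u}) : PicGrp.Law Y := M2.law Y

variable {k : Type u} [Field k] [IsAlgClosed k] {X : Scheme.{u}} [X.Over (Spec (CommRingCat.of k))]
  [IsProper (X ↘ Spec (CommRingCat.of k))] [Smooth (X ↘ Spec (CommRingCat.of k))] [IsIntegral X]
  (hdim : topologicalKrullDim X = 2)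
include k hdim

omit k hdim in
/-- An integral closed subscheme is the closure of its generic point. -/
theorem exists_eq_ptIdeal (E : X.IdealSheafData) (hE : IsIntegral E.subscheme)
    (h1 : topologicalKrullDim (E.support : Set X) = 1) :
    ∃ η : X, topologicalKrullDim (closure ({η} : Set X)) = 1 ∧ E = ptIdeal η := by
  haveI := hE
  have hr : Set.range E.subschemeι = closure {E.subschemeι (genericPoint E.subscheme)} := by
    have h := ((genericPoint_spec E.subscheme).image E.subschemeι.continuous).def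
    rw [Set.image_univ, E.subschemeι.isClosedEmbedding.isClosed_range.closure_eq] at h
    exact h.symm
  refine ⟨E.subschemeι (genericPoint E.subscheme), ?_, ?_⟩
  · rw [← hr, Scheme.IdealSheafData.range_subschemeι]
    exact h1
  · refine (Scheme.IdealSheafData.ker_subschemeι E).symm.trans ?_
    rw [SchImage.ker_eq_vanishingIdeal E.subschemeι]
    congr 1
    refine Closeds.ext ?_
    show closure (Set.range E.subschemeι) = closure {_}
    rw [hr, closure_closure]

/-- A class of negative degree has no section on the curve. -/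
theorem subsingleton_h0_tw {ξ : X} (hξ : topologicalKrullDim (closure ({ξ} : Set X)) = 1) {M : X.Modules}
    (hM : PicF.IsInvertible M) (hd : sdot k (ncl (k := k) hdim hξ) (PicGrp.cls M hM) < 0) :
    Subsingleton (Coh.HH X (tw (ptIdeal ξ) M) 0) := by
  haveI : IsNoetherian X := CohFound.isNoetherian_of_isProper (X ↘ Spec (CommRingCat.of k))
  let ι := (ptIdeal ξ).subschemeι
  letI : (ptIdeal ξ).subscheme.Over (Spec (CommRingCat.of k)) := ⟨ι ≫ (X ↘ Spec (CommRingCat.of k))⟩
  haveI : IsProper ((ptIdeal ξ).subscheme ↘ Spec (CommRingCat.of k)) :=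
    inferInstanceAs (IsProper (ι ≫ (X ↘ Spec (CommRingCat.of k))))
  haveI := (isIntegral_pt ξ).1
  haveI : IsNoetherian (ptIdeal ξ).subscheme :=
    CohFound.isNoetherian_of_isProper ((ptIdeal ξ).subscheme ↘ Spec (CommRingCat.of k))
  have hd1 : topologicalKrullDim (ptIdeal ξ).subscheme ≤ 1 :=
    ((AmpleFin18.dim_subscheme _ (Scheme.IdealSheafData.coe_support_vanishingIdeal _)).trans hξ).le
  obtain ⟨M', hM', ⟨eM⟩⟩ := M2.exists_inverse hM
  let N := (Scheme.Modules.pullback ι).obj M
  have hN : PicF.IsInvertible N := PicLoc.isInvertible_pullback ι hM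
  have hNc := CurveCoh17.isCoh_of_ofRank ((M2.isInvertible_iff_isFinLocFreeOfRank_one N).1 hN)
  let j : tw (ptIdeal ξ) M ≅ (Scheme.Modules.pushforward ι).obj N :=
    (Kunneth22.projIso ι eM).app (Coh.structureModule _) ≪≫ (Scheme.Modules.pushforward ι).mapIso (M2.tensorLUnit _)
  obtain ⟨e⟩ := AmpleFin18.nonempty_HH_push (k := k) ι rfl N hNc.1 0
  have hdeg : sdot k (ncl (k := k) hdim hξ) (PicGrp.cls M hM) = Curv2.deg k (ptIdeal ξ).subscheme N 1 := by
    rw [← SurfRR10.cdeg_quot (k := k) hdim hξ hM, Curv2.deg, Nat.cast_one, one_mul,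
      CurveCoh17.euler_iso (show CohB1.tensorMod (ClSub.quotMod (ptIdeal ξ)) M ≅ _ from j),
      AmpleFin18.euler_push ι rfl _ (M1.isCoh_structureModule _).1, AmpleFin18.euler_push ι rfl _ hNc.1]
  have hX := CurveAmple18.curveLike k (ptIdeal ξ).subscheme hd1
  haveI : Subsingleton (Coh.HH (ptIdeal ξ).subscheme N 0) := not_nontrivial_iff_subsingleton.1 fun hn => by
    have h := (hX.deg_nonneg (CurveCoh17.rkOne_of_invertible hd1 hN) hn).1
    omega
  exact ((CurveCoh17.hequiv k j 0).trans e).toEquiv.subsingleton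

/-- Removing a curve on which the class is negative keeps the sections. -/
theorem finrank_h0_tensor {ξ : X} (hξ : topologicalKrullDim (closure ({ξ} : Set X)) = 1) {M : X.Modules}
    (hM : PicF.IsInvertible M) (hd : sdot k (ncl (k := k) hdim hξ) (PicGrp.cls M hM) < 0) :
    Module.finrank k (Coh.HH X (CohB1.tensorMod (ClSub.idealMod (ptIdeal ξ)) M) 0) =
      Module.finrank k (Coh.HH X M 0) := by
  haveI : IsNoetherian X := CohFound.isNoetherian_of_isProper (X ↘ Spec (CommRingCat.of k))
  have hS := CurveCoh17.twistSES hM (ptIdeal ξ)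
  have h3 := subsingleton_h0_tw (k := k) hdim hξ hM hd
  refine (LinearEquiv.ofBijective _ ⟨CurveCoh17.hmap_f_injective k hS, fun x => ?_⟩).finrank_eq.trans
    (CurveCoh17.hequiv k (M2.tensorLUnit M) 0).finrank_eq
  exact (CurveCoh17.exact_hmap_hmap k hS 0 x).1 (@Subsingleton.elim _ h3 _ _)

/-- `h⁰` of a class does not change when a negative curve is removed. -/
theorem hh0_mul_icl {ξ : X} (hξ : topologicalKrullDim (closure ({ξ} : Set X)) = 1) (c : PicLoc.PicSet X)
    (hd : sdot k (ncl (k := k) hdim hξ) c < 0) :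
    hh k 0 (c * (ncl (k := k) hdim hξ)⁻¹) = hh k 0 c := by
  have hI := cartier_pt (k := k) hdim hξ
  have hIi := M2.isInvertible_idealMod (ptIdeal ξ) hI
  have h := finrank_h0_tensor (k := k) hdim hξ (rep_inv c) (by rw [cls_rep]; exact hd)
  obtain ⟨e⟩ := (PicGrp.cls_eq_cls_iff (M2.isInvertible_tensor hIi (rep_inv c))
    (rep_inv (c * (ncl (k := k) hdim hξ)⁻¹))).1 (by
      rw [← AlgEquiv22.cls_tensor hIi (rep_inv c), cls_rep, cls_rep, SurfRR10.cls_ideal_pt (k := k) hdim hξ,
        mul_comm])
  rw [(CurveCoh17.hequiv k e 0).finrank_eq] at h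
  exact h

/-- The degree on a curve in terms of Euler characteristics. -/
theorem euler_sub_eq {ξ : X} (hξ : topologicalKrullDim (closure ({ξ} : Set X)) = 1) {M : X.Modules}
    (hM : PicF.IsInvertible M) :
    Curv2.euler k X (CohB1.tensorMod (ClSub.quotMod (ptIdeal ξ)) M) - Curv2.euler k X (ClSub.quotMod (ptIdeal ξ)) =
      sdot k (ncl (k := k) hdim hξ) (PicGrp.cls M hM) := by
  have h := euler_tw (k := k) hdim (cartier_pt (k := k) hdim hξ) hM
  rw [icl_pt (k := k) hdim hξ, SurfRR10.sdot_inv_left (k := k) hdim] at h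
  rw [show CohB1.tensorMod (ClSub.quotMod (ptIdeal ξ)) M = tw (ptIdeal ξ) M from rfl, h]
  ring

/-- The self intersection of the ideal is that of the curve. -/
theorem intNum_ideal {ξ : X} (hξ : topologicalKrullDim (closure ({ξ} : Set X)) = 1) :
    FGA.intNum k X 2 ![ClSub.idealMod (ptIdeal ξ), ClSub.idealMod (ptIdeal ξ)] (Coh.structureModule X) =
      sdot k (ncl (k := k) hdim hξ) (ncl (k := k) hdim hξ) := by
  have hI := M2.isInvertible_idealMod (ptIdeal ξ) (cartier_pt (k := k) hdim hξ)
  rw [SymSq10.intNum_eq' (k := k) (SurfRR10.dim_eq (k := k) hdim).le hI hI]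
  show sdot k _ _ = _
  rw [SurfRR10.cls_ideal_pt (k := k) hdim hξ, SurfRR10.sdot_inv_left (k := k) hdim,
    SurfRR10.sdot_inv_right (k := k) hdim, neg_neg]

/-- The structure sheaf has one section. -/
theorem hh0_one : hh k 0 (1 : PicLoc.PicSet X) = 1 := by
  obtain ⟨e⟩ := (PicGrp.cls_eq_cls_iff (rep_inv (1 : PicLoc.PicSet X)) (PicLoc.isInvertible_structureModule X)).1
    (by rw [cls_rep, PicGrp.cls_structureModule_eq_one])
  exact (CurveCoh17.hequiv k e 0).finrank_eq.trans (SurfRR10.finrank_h0_eq_one (k := k) (X := X))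

end Groth.Agent.ExcTwist10

end
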